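import Cfsg.Agent.Lib.Small.SpRegular.Cyclic
import Mathlib.LinearAlgebra.SymplecticGroup

/-!
Regular unipotent elements of `Sp_2m(q)`, `q` odd: centraliser and the two classes, by the Cayley transform.
-/

set_option autoImplicit false
set_option linter.unusedSectionVars false
set_option linter.style.haveILetI false

namespace Cfsg.Agent.Small.SpRegular

open Matrix

variable {F : Type*} [Field F] {m : ℕ}

local notation "Mat" => Matrix (Fin m ⊕ Fin m) (Fin m ⊕ Fin m) F
local notation "GLm" => GL (Fin m ⊕ Fin m) F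
local notation "Sp" => Matrix.symplecticGroup (Fin m) F
local notation "JJ" => Matrix.J (Fin m) F

/-- The adjoint for the standard alternating form. -/
def ad (M : Mat) : Mat := -(JJ * Mᵀ * JJ)

theorem ad_one : ad (1 : Mat) = 1 := by rw [ad, transpose_one, mul_one, J_squared, neg_neg]

theorem ad_mul (M M' : Mat) : ad (M * M') = ad M' * ad M := by
  simp only [ad, transpose_mul, neg_mul_neg]
  rw [show JJ * M'ᵀ * JJ * (JJ * Mᵀ * JJ) = JJ * M'ᵀ * (JJ * JJ) * (Mᵀ * JJ) by noncomm_ring, J_squared]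
  noncomm_ring

theorem ad_add (M M' : Mat) : ad (M + M') = ad M + ad M' := by
  simp only [ad, transpose_add]; noncomm_ring

theorem ad_smul (c : F) (M : Mat) : ad (c • M) = c • ad M := by
  simp only [ad, transpose_smul, Matrix.mul_smul, Matrix.smul_mul, smul_neg]

theorem ad_ad (M : Mat) : ad (ad M) = M := by
  simp only [ad, transpose_neg, transpose_mul, transpose_transpose, J_transpose]
  rw [show -(JJ * -(-JJ * (M * -JJ)) * JJ) = JJ * JJ * M * (JJ * JJ) by noncomm_ring, J_squared]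
  simp

theorem ad_pow (M : Mat) (k : ℕ) : ad (M ^ k) = ad M ^ k := by
  induction k with
  | zero => rw [pow_zero, pow_zero, ad_one]
  | succ k ih => rw [pow_succ, ad_mul, ih, ← pow_succ']

theorem ad_poly {n : ℕ} (T : Mat) (c : Fin n → F) : ad (poly T c) = poly (ad T) c := by
  let f : Mat →+ Mat := AddMonoidHom.mk' ad ad_add
  show f (poly T c) = _
  rw [poly, poly, map_sum]
  exact Finset.sum_congr rfl fun i _ => by rw [show f _ = ad _ from rfl, ad_smul, ad_pow]

theorem mem_iff (M : Mat) : M ∈ Sp ↔ M * ad M = 1 := by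
  rw [SymplecticGroup.mem_iff, ad]
  constructor
  · intro h
    rw [show M * -(JJ * Mᵀ * JJ) = M * JJ * Mᵀ * -JJ by noncomm_ring, h, mul_neg, J_squared, neg_neg]
  · intro h
    have := congrArg (· * JJ) h
    simp only [one_mul] at this
    rw [show M * -(JJ * Mᵀ * JJ) * JJ = -(M * JJ * Mᵀ * (JJ * JJ)) by noncomm_ring, J_squared] at this
    simpa using this

/-- Symplectic matrices as invertible matrices. -/
def toG : ↥Sp →* GLm := (Sp).subtype.toHomUnits

theorem toG_val (x : ↥Sp) : (toG x).1 = x.1 := rfl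

theorem toG_inj : Function.Injective (toG (F := F) (m := m)) := fun _ _ h => Subtype.ext (congrArg Units.val h)

theorem ad_mul_self (x : ↥Sp) : ad x.1 * x.1 = 1 := mul_eq_one_comm.1 ((mem_iff _).1 x.2)

/-- The adjoint of an invertible matrix. -/
def adU (g : GLm) : GLm :=
  ⟨ad g.1, ad (g⁻¹).1, by rw [← ad_mul, g.inv_mul, ad_one], by rw [← ad_mul, g.mul_inv, ad_one]⟩

theorem adU_mul (g h : GLm) : adU (g * h) = adU h * adU g := Units.ext (ad_mul g.1 h.1)

theorem adU_adU (g : GLm) : adU (adU g) = g := Units.ext (ad_ad g.1)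

theorem adU_inv (g : GLm) : adU g⁻¹ = (adU g)⁻¹ := Units.ext rfl

theorem adU_one : adU (1 : GLm) = 1 := Units.ext ad_one

/-- Symplectic. -/
def IsSp (g : GLm) : Prop := adU g * g = 1

theorem isSp_toG (x : ↥Sp) : IsSp (toG x) := Units.ext (ad_mul_self x)

theorem exists_toG {g : GLm} (hg : IsSp g) : ∃ x : ↥Sp, toG x = g :=
  ⟨⟨g.1, (mem_iff _).2 (mul_eq_one_comm.1 (congrArg Units.val hg))⟩, Units.ext rfl⟩

theorem isSp_conj {g h : GLm} (hg : IsSp g) (hh : IsSp h) : IsSp (g * h * g⁻¹) := by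
  have h1 : adU g = g⁻¹ := eq_inv_of_mul_eq_one_left hg
  have h2 : adU h = h⁻¹ := eq_inv_of_mul_eq_one_left hh
  rw [IsSp, adU_mul, adU_mul, adU_inv, h1, h2]
  group

/-- Regular unipotent. -/
def IsR (g : GLm) : Prop := IsCyc (2 * m) (g.1 - 1)

theorem isR_iff (hm : 1 ≤ m) (g : GLm) :
    IsR g ↔ (g.1 - 1) ^ (2 * m) = 0 ∧ (g.1 - 1).rank = 2 * m - 1 :=
  ⟨fun h => ⟨h.nil, rank_of_top h⟩, fun h => top_of_rank (by simp; ring) (by omega) h.1 h.2⟩

theorem isR_conj {g : GLm} (hg : IsR g) (x : GLm) : IsR (x * g * x⁻¹) := by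
  have e : (x * g * x⁻¹).1 - 1 = x.1 * (g.1 - 1) * (x⁻¹).1 := by
    rw [Units.val_mul, Units.val_mul, mul_sub, sub_mul, mul_one, ← Units.val_mul x x⁻¹, mul_inv_cancel,
      Units.val_one]
  refine ⟨hg.card, hg.pos, by rw [e, Units.conj_pow, hg.nil, mul_zero, zero_mul], fun h => hg.top ?_⟩
  rw [e, Units.conj_pow, Units.mul_left_eq_zero, Units.mul_right_eq_zero] at h
  exact h

theorem exists_cayley (h2 : (2 : F) ≠ 0) {A : GLm} (hA : IsSp A) (hR : IsR A) :
    ∃ T : Mat, IsCyc (2 * m) T ∧ ad T = -T ∧ ∀ M : Mat, Commute M A.1 ↔ Commute M T := by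
  obtain ⟨N, hN⟩ : ∃ N, N = A.1 - 1 := ⟨_, rfl⟩
  have hAN : A.1 = N + 1 := by rw [hN, sub_add_cancel]
  have hu2 : IsUnit (algebraMap F Mat 2) := (isUnit_iff_ne_zero.2 h2).map _
  have hnil : IsNilpotent N := ⟨2 * m, hN ▸ hR.nil⟩
  have hA1 : IsUnit (A.1 + 1) := by
    rw [hAN, add_assoc, show (1 : Mat) + 1 = algebraMap F Mat 2 by rw [map_ofNat]; norm_num]
    exact IsNilpotent.isUnit_add_right_of_commute hnil hu2 (Algebra.commute_algebraMap_right _ _)
  obtain ⟨S, hS⟩ := hA1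
  have hNS : Commute N S.1 := by
    rw [hS, hAN]; exact ((Commute.refl N).add_right (Commute.one_right N)).add_right (Commute.one_right N)
  have hNB : Commute N (S⁻¹).1 := hNS.units_inv_right
  have hpow : ∀ k, (N * (S⁻¹).1) ^ k = N ^ k * ((S⁻¹).1) ^ k := fun k => hNB.mul_pow k
  refine ⟨N * (S⁻¹).1, ⟨hR.card, hR.pos, by rw [hpow, hN, hR.nil, zero_mul], fun h => hR.top ?_⟩, ?_, ?_⟩
  · rw [hpow, ← Units.val_pow_eq_pow_val, Units.mul_left_eq_zero] at h
    rwa [← hN]
  · have hadA : ad A.1 = (A⁻¹).1 := congrArg Units.val (eq_inv_of_mul_eq_one_left hA : adU A = A⁻¹)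
    have hadN : ad N = -((A⁻¹).1 * N) := by
      have e : ad (N + 1) = ad N + 1 := by rw [ad_add, ad_one]
      rw [← hAN, hadA] at e
      have e2 : (A⁻¹).1 * N = 1 - (A⁻¹).1 := by rw [hN, mul_sub, mul_one, Units.inv_mul]
      rw [e2, neg_sub, ← sub_eq_of_eq_add e]
    have hadS : adU S = A⁻¹ * S := by
      refine Units.ext ?_
      show ad S.1 = (A⁻¹).1 * S.1
      rw [hS, ad_add, ad_one, hadA, mul_add, mul_one, Units.inv_mul, add_comm]
    have hadB : ad (S⁻¹).1 = (S⁻¹).1 * A.1 := by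
      have := congrArg Units.val (show adU S⁻¹ = S⁻¹ * A by rw [adU_inv, hadS, _root_.mul_inv_rev, inv_inv])
      simpa [adU] using this
    rw [ad_mul, hadN, hadB, mul_neg, mul_assoc, ← mul_assoc A.1, Units.mul_inv, one_mul, hNB.eq]
  · intro M
    have hrel : N * (S⁻¹).1 * S.1 = N := by rw [mul_assoc, Units.inv_mul, mul_one]
    constructor
    · intro h
      have h1 : Commute M N := hN ▸ h.sub_right (Commute.one_right M)
      exact h1.mul_right ((show Commute M S.1 from hS ▸ h.add_right (Commute.one_right M)).units_inv_right)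
    · intro h
      obtain ⟨T, hT⟩ : ∃ T, T = N * (S⁻¹).1 := ⟨_, rfl⟩
      rw [← hT] at h hrel
      -- `A = (1 + T) (1 - T)⁻¹`
      have e1 : (1 - T) * A.1 = 1 + T := by
        have e0 : T * S.1 = A.1 - 1 := by rw [hrel, hN]
        rw [hS, mul_add, mul_one] at e0
        rw [sub_mul, one_mul, sub_eq_iff_eq_add, add_assoc, add_comm T, e0, add_sub_cancel]
      have hTn : IsNilpotent T := ⟨2 * m, by rw [hT, hpow, hN, hR.nil, zero_mul]⟩
      obtain ⟨U, hU⟩ := hTn.isUnit_one_sub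
      have e2 : A.1 = (U⁻¹).1 * (1 + T) := by rw [← e1, ← hU, Units.inv_mul_cancel_left]
      rw [e2]
      exact (show Commute M U.1 from hU ▸ (Commute.one_right M).sub_right h).units_inv_right.mul_right
        ((Commute.one_right M).add_right h)

theorem card_first_ne_zero [Fintype F] {n : ℕ} (hn : 1 ≤ n) :
    Nat.card {c : Fin n → F // c ⟨0, hn⟩ ≠ 0} = (Fintype.card F - 1) * Fintype.card F ^ (n - 1) := by
  classical
  obtain ⟨k, rfl⟩ : ∃ k, n = k + 1 := ⟨n - 1, by omega⟩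
  have e : {c : Fin (k + 1) → F // c ⟨0, hn⟩ ≠ 0} ≃ {a : F // a ≠ 0} × (Fin k → F) :=
    ((Fin.consEquiv fun _ => F).symm.subtypeEquiv (p := fun c => c ⟨0, hn⟩ ≠ 0) (q := fun x => x.1 ≠ 0)
      fun c => by simp [Fin.consEquiv]).trans (Equiv.prodSubtypeFstEquivSubtypeProd (p := fun a : F => a ≠ 0))
  rw [Nat.card_congr e, Nat.card_prod, Nat.card_eq_fintype_card (α := {a : F // a ≠ 0}), Nat.card_fun]
  simp [Fintype.card_subtype_compl]

/-- The coefficients of an even polynomial. -/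
def evenExt (d : Fin m → F) (i : Fin (2 * m)) : F := if Even (i : ℕ) then d ⟨(i : ℕ) / 2, by omega⟩ else 0

variable [Fintype F]

theorem main (h2 : (2 : F) ≠ 0) (hm : 1 ≤ m) {A : GLm} (hA : IsSp A) (hR : IsR A) :
    Nat.card {g : GLm // g * A = A * g ∧ IsSp g} = 2 * Fintype.card F ^ m ∧
    (∀ s : GLm, s * A = A * s → adU s = s → ∀ c : Fˣ, ¬ IsSquare c →
      (∃ f : GLm, f * A = A * f ∧ adU f = f ∧ s = f * f) ∨
      ∃ f : GLm, f * A = A * f ∧ adU f = f ∧ s.1 = (c : F) • (f * f).1) ∧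
    (∀ g : GLm, g * A = A * g → ∀ c : Fˣ, (adU g * g).1 = (c : F) • (1 : Mat) → IsSquare c) := by
  classical
  obtain ⟨T, hT, hadT, hcomm⟩ := exists_cayley h2 hA hR
  have hn : 1 ≤ 2 * m := hT.pos
  let G : Subgroup GLm := Subgroup.centralizer ({A} : Set GLm)
  have hG : ∀ g : GLm, g ∈ G ↔ Commute g.1 T := fun g => by
    rw [Subgroup.mem_centralizer_singleton_iff, ← hcomm g.1, Units.ext_iff]; rfl
  have hGcomm : ∀ g h : G, g * h = h * g := fun g h =>
    Subtype.ext (Units.ext (commute_all hT ((hG _).1 g.2) ((hG _).1 h.2)).eq)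
  have hadG : ∀ g : G, adU g.1 ∈ G := fun g => by
    rw [hG]
    have h1 := congrArg ad ((hG _).1 g.2).eq
    rw [ad_mul, ad_mul, hadT, mul_neg, neg_mul, neg_inj] at h1
    exact h1.symm
  let σ : G →* G := MonoidHom.mk' (fun g => ⟨adU g.1, hadG g⟩) fun g h => by
    rw [hGcomm]; exact Subtype.ext (adU_mul h.1 g.1)
  have hσσ : ∀ g, σ (σ g) = g := fun g => Subtype.ext (adU_adU g.1)
  let ν : G →* G := MonoidHom.mk' (fun g => σ g * g) fun g h => by
    rw [map_mul, mul_assoc, mul_assoc, ← mul_assoc (σ h) g, hGcomm (σ h) g, mul_assoc]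
  let E : Subgroup G := σ.eqLocus (MonoidHom.id G)
  -- leading coefficient
  have htop := hT.top
  have hlead : ∀ g : G, ∃ a : Fˣ, g.1.1 * T ^ (2 * m - 1) = (a : F) • T ^ (2 * m - 1) := fun g => by
    obtain ⟨c, hc⟩ := exists_poly hT ((hG _).1 g.2)
    have h1 := poly_lead hT c
    rw [← hc] at h1
    refine ⟨Units.mk0 _ fun h0 => htop ?_, h1⟩
    rw [h0, zero_smul] at h1
    exact (Units.mul_right_eq_zero g.1).1 h1
  choose χ₀ hχ₀ using hlead
  have huniq : ∀ (g : G) (a : F), g.1.1 * T ^ (2 * m - 1) = a • T ^ (2 * m - 1) → (χ₀ g : F) = a :=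
    fun g a h => smul_left_injective F htop ((hχ₀ g).symm.trans h)
  let χ : G →* Fˣ := MonoidHom.mk' χ₀ fun g h => Units.ext (huniq _ _ (by
    show (g.1.1 * h.1.1) * _ = _
    rw [mul_assoc, hχ₀, Matrix.mul_smul, hχ₀, smul_smul, Units.val_mul, mul_comm]))
  have hχσ : ∀ g, χ (σ g) = χ g := fun g => Units.ext (huniq _ _ (by
    have h1 := congrArg ad (hχ₀ g)
    rw [ad_mul, ad_smul, ad_pow, hadT, neg_pow] at h1
    have h2 : ∀ X : Mat, (-1 : Mat) ^ (2 * m - 1) * X = (-1 : F) ^ (2 * m - 1) • X := fun X => by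
      rw [← neg_one_smul F (1 : Mat), smul_pow, one_pow, Matrix.smul_mul, one_mul]
    rw [h2, Matrix.smul_mul, smul_comm] at h1
    have h3 := smul_right_injective Mat (pow_ne_zero (2 * m - 1) (neg_ne_zero.2 (one_ne_zero (α := F)))) h1
    show ad g.1.1 * _ = _
    exact (((hG _).1 (hadG g)).pow_right _).eq.trans h3))
  -- scalars
  let sc : Fˣ →* G := (Units.map (algebraMap F Mat).toMonoidHom).codRestrict G fun a => by
    rw [hG]; exact Algebra.commute_algebraMap_left (a : F) T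
  have hsc : ∀ a : Fˣ, (sc a).1.1 = (a : F) • (1 : Mat) := fun a => Algebra.algebraMap_eq_smul_one (a : F)
  have hscE : ∀ a, sc a ∈ E := fun a => Subtype.ext (Units.ext (by
    show ad (sc a).1.1 = (sc a).1.1
    rw [hsc, ad_smul, ad_one]))
  have hχsc : ∀ a, χ (sc a) = a := fun a => Units.ext (huniq _ _ (by rw [hsc, Matrix.smul_mul, one_mul]))
  -- cardinalities
  have hcardG : Nat.card G = (Fintype.card F - 1) * Fintype.card F ^ (2 * m - 1) := by
    rw [← card_first_ne_zero (F := F) hn]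
    refine (Nat.card_eq_of_bijective (fun c : {c : Fin (2 * m) → F // c ⟨0, hn⟩ ≠ 0} =>
      (⟨(isUnit_poly hT c.1 c.2).unit, (hG _).2 (by rw [IsUnit.unit_spec]; exact poly_commute T c.1)⟩ : G))
      ⟨fun c d h => ?_, fun g => ?_⟩).symm
    · have h1 := congrArg (fun x : G => x.1.1) h
      simp only [IsUnit.unit_spec] at h1
      exact Subtype.ext (poly_inj hT h1)
    · obtain ⟨c, hc⟩ := exists_poly hT ((hG _).1 g.2)
      refine ⟨⟨c, fun h0 => htop ?_⟩, Subtype.ext (Units.ext hc.symm)⟩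
      have h1 := poly_lead hT c
      rw [← hc, h0, zero_smul] at h1
      exact (Units.mul_right_eq_zero g.1).1 h1
  have hpolyad : ∀ c : Fin (2 * m) → F, ad (poly T c) = poly T (fun i => (-1 : F) ^ (i : ℕ) * c i) := fun c => by
    rw [ad_poly, hadT, poly, poly]
    refine Finset.sum_congr rfl fun i _ => ?_
    rw [← neg_one_smul F T, smul_pow, smul_smul, mul_comm]
  have hcardE : Nat.card E = (Fintype.card F - 1) * Fintype.card F ^ (m - 1) := by
    rw [← card_first_ne_zero (F := F) hm]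
    have h0 : ∀ d : Fin m → F, evenExt d ⟨0, hn⟩ = d ⟨0, hm⟩ := fun d => by simp [evenExt]
    have hmem : ∀ d : {d : Fin m → F // d ⟨0, hm⟩ ≠ 0}, ∃ e : E, e.1.1.1 = poly T (evenExt d.1) := fun d => by
      refine ⟨⟨⟨(isUnit_poly hT (evenExt d.1) (by rw [h0]; exact d.2)).unit,
        (hG _).2 (by rw [IsUnit.unit_spec]; exact poly_commute T _)⟩, Subtype.ext (Units.ext ?_)⟩, IsUnit.unit_spec _⟩
      show ad (IsUnit.unit _).1 = (IsUnit.unit _).1
      rw [IsUnit.unit_spec, hpolyad]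
      congr 1
      funext i
      rw [evenExt]
      split_ifs with hi
      · rw [hi.neg_one_pow, one_mul]
      · rw [mul_zero]
    choose φ hφ using hmem
    refine (Nat.card_eq_of_bijective φ ⟨fun d d' h => Subtype.ext (funext fun j => ?_), fun e => ?_⟩).symm
    · have h1 := poly_inj hT ((hφ d).symm.trans ((congrArg (fun x : E => x.1.1.1) h).trans (hφ d')))
      have := congrFun h1 ⟨2 * (j : ℕ), by omega⟩
      simpa [evenExt] using this
    · obtain ⟨c, hc⟩ := exists_poly hT ((hG _).1 e.1.2)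
      have h1 : ad (poly T c) = poly T c := by
        rw [← hc]; exact congrArg (fun x : G => x.1.1) e.2
      rw [hpolyad] at h1
      have hodd : ∀ i : Fin (2 * m), ¬ Even (i : ℕ) → c i = 0 := fun i hi => by
        have := congrFun (poly_inj hT h1) i
        rw [(Nat.not_even_iff_odd.1 hi).neg_one_pow] at this
        exact (mul_eq_zero.1 (show (2 : F) * c i = 0 by linear_combination -this)).resolve_left h2
      have hce : evenExt (fun j : Fin m => c ⟨2 * (j : ℕ), by omega⟩) = c := funext fun i => by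
        rw [evenExt]
        split_ifs with hi
        · congr 1
          exact Fin.ext (Nat.two_mul_div_two_of_even hi)
        · exact (hodd i hi).symm
      have hc0 : c ⟨0, hn⟩ ≠ 0 := fun h0' => htop (by
        have h2' := poly_lead hT c
        rw [← hc, h0', zero_smul] at h2'
        exact (Units.mul_right_eq_zero e.1.1).1 h2')
      refine ⟨⟨fun j => c ⟨2 * (j : ℕ), by omega⟩, by simpa using hc0⟩, Subtype.ext (Subtype.ext (Units.ext ?_))⟩
      rw [hφ, hce, hc]
  have hodd : Odd (Fintype.card F) := by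
    obtain ⟨p, hp⟩ := CharP.exists F
    obtain ⟨k, hpp, hc⟩ := FiniteField.card F p
    rw [hc]
    refine (hpp.odd_of_ne_two fun h => h2 ?_).pow
    subst h
    exact_mod_cast CharP.cast_eq_zero F 2
  -- roots in `E`
  let χE : E →* Fˣ := χ.comp E.subtype
  have hU : (Nat.card χE.ker).Coprime 2 := by
    have h1 := Subgroup.card_eq_card_quotient_mul_card_subgroup χE.ker
    rw [Nat.card_congr (QuotientGroup.quotientKerEquivOfSurjective χE fun a => ⟨⟨sc a, hscE a⟩, hχsc a⟩).toEquiv,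
      hcardE, Nat.card_units, Nat.card_eq_fintype_card (α := F)] at h1
    rw [← Nat.eq_of_mul_eq_mul_left (by have := Fintype.one_lt_card (α := F); omega) h1]
    exact (Nat.coprime_two_right.2 hodd.pow)
  have hroot : ∀ e ∈ E, ∀ b : Fˣ, χ e = b * b → ∃ f ∈ E, f * f = e := fun e he b hb => by
    have hk : (⟨sc (b * b)⁻¹ * e, E.mul_mem (hscE _) he⟩ : E) ∈ χE.ker := by
      show χ (sc (b * b)⁻¹ * e) = 1
      rw [map_mul, hχsc, hb, inv_mul_cancel]
    obtain ⟨f, hf⟩ := (powCoprime hU).surjective ⟨_, hk⟩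
    refine ⟨sc b * f.1.1, E.mul_mem (hscE b) f.1.2, ?_⟩
    have hf2 : f.1.1 * f.1.1 = sc (b * b)⁻¹ * e := by
      have := congrArg (fun x : χE.ker => x.1.1) hf
      simpa [powCoprime, pow_two] using this
    rw [mul_assoc, ← mul_assoc f.1.1, hGcomm f.1.1 (sc b), mul_assoc, hf2, ← mul_assoc, ← mul_assoc, ← map_mul,
      ← map_mul, mul_inv_cancel, map_one, one_mul]
  let sq : E →* G := MonoidHom.mk' (fun e => e.1 * e.1) fun e f => by
    show e.1 * f.1 * (e.1 * f.1) = e.1 * e.1 * (f.1 * f.1)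
    rw [mul_assoc, mul_assoc, ← mul_assoc f.1, hGcomm f.1 e.1, mul_assoc]
  have hker : Nat.card sq.ker = 2 := by
    rw [Nat.card_eq_two_iff' 1]
    have hm1 : (⟨sc (-1), hscE _⟩ : E) ∈ sq.ker := by
      show sc (-1) * sc (-1) = 1
      rw [← map_mul]; simp
    refine ⟨⟨_, hm1⟩, fun h => ?_, fun e he => ?_⟩
    · have := congrArg (fun x : sq.ker => χ x.1.1) h
      simp [hχsc, Units.ext_iff] at this
      exact h2 (by linear_combination -this)
    · have hee : e.1.1 * e.1.1 = 1 := e.2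
      have hχe : χ e.1.1 * χ e.1.1 = 1 := by rw [← map_mul, hee, map_one]
      rcases mul_self_eq_one_iff.1 (show (χ e.1.1 : F) * χ e.1.1 = 1 by rw [← Units.val_mul, hχe, Units.val_one])
        with h | h
      · refine absurd ?_ he
        have hu : (⟨e.1, Units.ext h⟩ : χE.ker) = 1 := (powCoprime hU).injective (Subtype.ext (Subtype.ext (by
          simpa [powCoprime, pow_two] using hee)))
        exact Subtype.ext (congrArg (fun x : χE.ker => x.1) hu : e.1 = 1)
      · have hk : (⟨sc (-1) * e.1.1, E.mul_mem (hscE _) e.1.2⟩ : E) ∈ χE.ker := Units.ext (by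
          show ((χ (sc (-1) * e.1.1) : Fˣ) : F) = 1
          rw [map_mul, hχsc, Units.val_mul, h]; simp)
        have hu : (⟨_, hk⟩ : χE.ker) = 1 := (powCoprime hU).injective (Subtype.ext (Subtype.ext (by
          simp only [powCoprime, Equiv.coe_fn_mk, pow_two]
          show sc (-1) * e.1.1 * (sc (-1) * e.1.1) = 1 * 1
          rw [one_mul, mul_assoc, ← mul_assoc e.1.1, hGcomm e.1.1 (sc (-1)), mul_assoc, hee, mul_one, ← map_mul]
          simp)))
        refine Subtype.ext (Subtype.ext ?_)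
        have h3 := congrArg (fun x : χE.ker => sc (-1) * x.1.1) hu
        simp only [OneMemClass.coe_one, mul_one, ← mul_assoc, ← map_mul, neg_mul_neg, map_one, one_mul] at h3
        exact h3
  have hrange : ν.range = sq.range := by
    refine le_antisymm ?_ ?_
    · rintro _ ⟨g, rfl⟩
      obtain ⟨f, hf, hff⟩ := hroot (ν g) (show σ (σ g * g) = σ g * g by rw [map_mul, hσσ]; exact hGcomm _ _) (χ g)
        (show χ (σ g * g) = χ g * χ g by rw [map_mul, hχσ])
      exact ⟨⟨f, hf⟩, hff⟩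
    · rintro _ ⟨e, rfl⟩
      exact ⟨e.1, show σ e.1 * e.1 = e.1 * e.1 by rw [show σ e.1 = e.1 from e.2]⟩
  have hνker : Nat.card {g : GLm // g * A = A * g ∧ IsSp g} = Nat.card ν.ker :=
    Nat.card_congr
      { toFun := fun g => ⟨⟨g.1, Subgroup.mem_centralizer_singleton_iff.2 g.2.1⟩, Subtype.ext g.2.2⟩
        invFun := fun g => ⟨g.1.1, Subgroup.mem_centralizer_singleton_iff.1 g.1.2, congrArg Subtype.val g.2⟩
        left_inv := fun _ => rfl
        right_inv := fun _ => rfl }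
  refine ⟨?_, fun s hs hads c hc => ?_, fun g hg c hc => ?_⟩
  · have k1 := Subgroup.card_eq_card_quotient_mul_card_subgroup ν.ker
    have k2 := Subgroup.card_eq_card_quotient_mul_card_subgroup sq.ker
    rw [Nat.card_congr (QuotientGroup.quotientKerEquivRange ν).toEquiv, hrange, hcardG, ← hνker] at k1
    rw [Nat.card_congr (QuotientGroup.quotientKerEquivRange sq).toEquiv, hker, hcardE] at k2
    have hpos : 0 < Nat.card sq.range := Nat.card_pos
    refine Nat.eq_of_mul_eq_mul_left hpos ?_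
    rw [← k1, show Nat.card sq.range * (2 * Fintype.card F ^ m) = Nat.card sq.range * 2 * Fintype.card F ^ m by ring,
      ← k2, mul_assoc, ← pow_add]
    congr 2
    omega
  · let s' : G := ⟨s, Subgroup.mem_centralizer_singleton_iff.2 hs⟩
    have hs' : s' ∈ E := Subtype.ext hads
    have key : ∀ d : Fˣ, IsSquare (d⁻¹ * χ s') →
        ∃ f : GLm, f * A = A * f ∧ adU f = f ∧ s.1 = (d : F) • (f * f).1 := fun d hd => by
      obtain ⟨r, hr⟩ := hd
      obtain ⟨f, hf, hff⟩ := hroot (sc d⁻¹ * s') (E.mul_mem (hscE _) hs') r (by rw [map_mul, hχsc, hr])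
      refine ⟨f.1, Subgroup.mem_centralizer_singleton_iff.1 f.2, congrArg Subtype.val hf, ?_⟩
      rw [show f.1 * f.1 = (sc d⁻¹ * s').1 from congrArg Subtype.val hff]
      show s.1 = (d : F) • ((sc d⁻¹).1.1 * s.1)
      rw [hsc, Matrix.smul_mul, one_mul, smul_smul, ← Units.val_mul, mul_inv_cancel, Units.val_one, one_smul]
    by_cases hsq : IsSquare (χ s')
    · obtain ⟨f, h1, h2, h3⟩ := key 1 (by simpa using hsq)
      exact Or.inl ⟨f, h1, h2, Units.ext (by rw [h3, Units.val_one, one_smul])⟩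
    refine Or.inr (key c ?_)
    have hidx : (powMonoidHom 2 : Fˣ →* Fˣ).range.index = 2 := by
      rw [IsCyclic.index_powMonoidHom_range, Nat.card_units, Nat.card_eq_fintype_card]
      exact Nat.gcd_eq_right ((Nat.Odd.sub_odd hodd odd_one).two_dvd)
    have hmem : ∀ x : Fˣ, x ∈ (powMonoidHom 2 : Fˣ →* Fˣ).range ↔ IsSquare x := fun x =>
      ⟨fun ⟨y, hy⟩ => ⟨y, by rw [← hy, powMonoidHom_apply, pow_two]⟩, fun ⟨y, hy⟩ => ⟨y, by rw [hy, powMonoidHom_apply, pow_two]⟩⟩
    rw [← hmem, Subgroup.mul_mem_iff_of_index_two hidx, hmem, hmem, isSquare_inv]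
    exact iff_of_false hc hsq
  · let g' : G := ⟨g, Subgroup.mem_centralizer_singleton_iff.2 hg⟩
    refine ⟨χ g', ?_⟩
    have h1 : ν g' = sc c := Subtype.ext (Units.ext (hc.trans (hsc c).symm))
    have h3 : χ (σ g' * g') = χ g' * χ g' := by rw [map_mul, hχσ]
    rw [← h3, ← hχsc c, ← h1]
    rfl

theorem card_centralizer (h2 : (2 : F) ≠ 0) (hm : 1 ≤ m) (u : ↥Sp)
    (hR : IsR (toG u)) :
    Nat.card ↥(Subgroup.centralizer ({u} : Set ↥Sp)) = 2 * Fintype.card F ^ m := by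
  rw [← (main h2 hm (isSp_toG u) hR).1]
  refine Nat.card_eq_of_bijective (fun g => ⟨toG g.1, by
    rw [← map_mul, ← map_mul, Subgroup.mem_centralizer_singleton_iff.1 g.2], isSp_toG g.1⟩) ⟨fun g h e => ?_, fun g => ?_⟩
  · exact Subtype.ext (toG_inj (congrArg Subtype.val e))
  · obtain ⟨x, hx⟩ := exists_toG g.2.2
    refine ⟨⟨x, Subgroup.mem_centralizer_singleton_iff.2 (toG_inj ?_)⟩, Subtype.ext hx⟩
    rw [map_mul, map_mul, hx, g.2.1]

/-- The similitude of multiplier `c`. -/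
theorem exists_similitude (c : Fˣ) : ∃ D : GLm, (adU D * D).1 = (c : F) • (1 : Mat) := by
  obtain ⟨M, hM⟩ : ∃ M : Mat, M = fromBlocks ((c : F) • 1) 0 0 1 := ⟨_, rfl⟩
  have hu : IsUnit M := by
    refine isUnit_iff_exists.2 ⟨fromBlocks (((c⁻¹ : Fˣ) : F) • 1) 0 0 1, ?_, ?_⟩ <;>
      simp [hM, fromBlocks_multiply, smul_smul, fromBlocks_one]
  refine ⟨hu.unit, ?_⟩
  rw [Units.val_mul]
  show ad M * M = _
  rw [hM, ad, Matrix.J, fromBlocks_transpose, fromBlocks_multiply, fromBlocks_multiply, fromBlocks_neg,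
    fromBlocks_multiply, ← fromBlocks_one, fromBlocks_smul]
  simp

theorem classify (h2 : (2 : F) ≠ 0) (hm : 1 ≤ m) {A A' D : GLm} (hA : IsSp A) (hR : IsR A) (hA' : IsSp A')
    (hR' : IsR A') {c : Fˣ} (hc : ¬ IsSquare c) (hD : (adU D * D).1 = (c : F) • (1 : Mat)) :
    (∃ y : GLm, IsSp y ∧ y * A * y⁻¹ = A') ∨ ∃ y : GLm, IsSp y ∧ y * (D * A * D⁻¹) * y⁻¹ = A' := by
  obtain ⟨x, hx⟩ := exists_conj (hR : IsCyc _ _) (hR' : IsCyc _ _)
  have hxA : x * A = A' * x := by
    refine Units.ext ?_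
    rw [mul_sub, sub_mul, mul_one, one_mul] at hx
    exact sub_left_inj.1 hx
  have hadA : adU A = A⁻¹ := eq_inv_of_mul_eq_one_left hA
  have hadA' : adU A' = A'⁻¹ := eq_inv_of_mul_eq_one_left hA'
  have hAx : adU x * A' = A * adU x := by
    have h1 := congrArg adU hxA
    rw [adU_mul, adU_mul, hadA, hadA'] at h1
    rw [← inv_mul_eq_iff_eq_mul, ← mul_assoc, h1, inv_mul_cancel_right]
  have hs : adU x * x * A = A * (adU x * x) := by rw [mul_assoc, hxA, ← mul_assoc, hAx, mul_assoc]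
  rcases (main h2 hm hA hR).2.1 (adU x * x) hs (by rw [adU_mul, adU_adU]) c hc with ⟨f, hfA, hf, hsf⟩ | ⟨f, hfA, hf, hsf⟩
  all_goals
    have hfA' : f⁻¹ * A * f = A := by rw [mul_assoc, ← hfA, inv_mul_cancel_left]
  · refine Or.inl ⟨x * f⁻¹, ?_, ?_⟩
    · rw [IsSp, adU_mul, adU_inv, hf, mul_assoc, ← mul_assoc (adU x), hsf]
      group
    · rw [_root_.mul_inv_rev, inv_inv, show x * f⁻¹ * A * (f * x⁻¹) = x * (f⁻¹ * A * f) * x⁻¹ by group, hfA',
        hxA, mul_inv_cancel_right]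
  · refine Or.inr ⟨x * f⁻¹ * D⁻¹, ?_, ?_⟩
    · let z : GLm := Units.map (algebraMap F Mat).toMonoidHom c
      have hz : ∀ g : GLm, z * g = g * z := fun g => Units.ext (Algebra.commutes _ _)
      have hsz : adU x * x = z * (f * f) := Units.ext (hsf.trans (by
        rw [Units.val_mul z]
        exact Algebra.smul_def _ _))
      have hDz : adU D * D = z := Units.ext (hD.trans (Algebra.algebraMap_eq_smul_one _).symm)
      rw [IsSp, adU_mul, adU_mul, adU_inv, adU_inv, hf,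
        show (adU D)⁻¹ * (f⁻¹ * adU x) * (x * f⁻¹ * D⁻¹) = (adU D)⁻¹ * (f⁻¹ * (adU x * x) * f⁻¹) * D⁻¹ by group,
        hsz, ← mul_assoc f⁻¹, ← hz f⁻¹, show (adU D)⁻¹ * (z * f⁻¹ * (f * f) * f⁻¹) * D⁻¹ = (adU D)⁻¹ * z * D⁻¹ by group,
        ← hDz]
      group
    · rw [show x * f⁻¹ * D⁻¹ * (D * A * D⁻¹) * (x * f⁻¹ * D⁻¹)⁻¹ = x * (f⁻¹ * A * f) * x⁻¹ by group, hfA', hxA,
        mul_inv_cancel_right]

theorem card_classes (h2 : (2 : F) ≠ 0) (hm : 1 ≤ m) (hex : ∃ u : ↥Sp, IsR (toG u)) :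
    Nat.card {C : ConjClasses ↥Sp // ∃ u : ↥Sp, ConjClasses.mk u = C ∧ IsR (toG u)} = 2 := by
  classical
  obtain ⟨u, hu⟩ := hex
  obtain ⟨c, hc⟩ : ∃ c : Fˣ, ¬ IsSquare c := by
    obtain ⟨a, ha⟩ := FiniteField.exists_nonsquare (F := F) (fun h => h2 (by
      have : ((2 : ℕ) : F) = 0 := (CharP.cast_eq_zero_iff F (ringChar F) 2).2 (dvd_of_eq h)
      simpa using this))
    refine ⟨Units.mk0 a fun h => ha ⟨0, by simp [h]⟩, fun ⟨r, hr⟩ => ha ⟨r, ?_⟩⟩
    simpa using congrArg Units.val hr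
  obtain ⟨D, hD⟩ := exists_similitude c
  have hA := isSp_toG u
  let z : GLm := Units.map (algebraMap F Mat).toMonoidHom c
  have hz : ∀ g : GLm, z * g = g * z := fun g => Units.ext (Algebra.commutes _ _)
  have hDz : adU D * D = z := Units.ext (hD.trans (Algebra.algebraMap_eq_smul_one _).symm)
  have hB : IsSp (D * toG u * D⁻¹) := by
    have h1 : adU D = z * D⁻¹ := by rw [← hDz, mul_inv_cancel_right]
    have hadA : adU (toG u) = (toG u)⁻¹ := eq_inv_of_mul_eq_one_left hA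
    rw [IsSp, adU_mul, adU_mul, adU_inv, h1, hadA, _root_.mul_inv_rev, inv_inv]
    rw [show D * z⁻¹ * ((toG u)⁻¹ * (z * D⁻¹)) * (D * toG u * D⁻¹) = D * z⁻¹ * ((toG u)⁻¹ * z * toG u) * D⁻¹ by group,
      mul_assoc (toG u)⁻¹, hz (toG u), inv_mul_cancel_left]
    group
  obtain ⟨w, hw⟩ := exists_toG hB
  have hwR : IsR (toG w) := hw ▸ isR_conj hu D
  rw [Nat.card_eq_two_iff]
  refine ⟨⟨_, u, rfl, hu⟩, ⟨_, w, rfl, hwR⟩, fun h => ?_, ?_⟩
  · obtain ⟨y, hy⟩ := isConj_iff.1 (ConjClasses.mk_eq_mk_iff_isConj.1 (congrArg Subtype.val h)).symm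
    have h1 := congrArg toG hy
    rw [map_mul, map_mul, map_inv, hw] at h1
    refine hc ((main h2 hm hA hu).2.2 (toG y * D) ?_ c ?_)
    · nth_rewrite 2 [← h1]; group
    · rw [adU_mul, mul_assoc, ← mul_assoc (adU (toG y)), isSp_toG y, one_mul, hD]
  · rw [Set.eq_univ_iff_forall]
    rintro ⟨C, v, rfl, hv⟩
    rcases classify h2 hm hA hu (isSp_toG v) hv hc hD with ⟨y, hy, hy'⟩ | ⟨y, hy, hy'⟩ <;>
      obtain ⟨x, rfl⟩ := exists_toG hy
    · refine Or.inl (Subtype.ext (ConjClasses.mk_eq_mk_iff_isConj.2 (isConj_iff.2 ⟨x, toG_inj ?_⟩).symm))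
      rw [map_mul, map_mul, map_inv, hy']
    · refine Or.inr (Subtype.ext (ConjClasses.mk_eq_mk_iff_isConj.2 (isConj_iff.2 ⟨x, toG_inj ?_⟩).symm))
      rw [map_mul, map_mul, map_inv, hw, hy']

end Cfsg.Agent.Small.SpRegular
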