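import Cfsg.Agent.Lib.Small.SymplecticElems
import Cfsg.Agent.Lib.Small.SpRegular.Main

/-!
A regular unipotent symplectic matrix (the element behind `exists_sp_unipotent`).
-/

set_option autoImplicit false
set_option linter.style.haveILetI false

namespace Cfsg.Agent.Small.SpRegular

open Matrix

variable {F : Type*} [Field F]

theorem exists_reg (e : ℕ) (he : 1 ≤ e) : ∃ u : symplecticGroup (Fin e) F, IsR (toG u) := by
  classical
  set l : Fin e := ⟨e - 1, by omega⟩ with hl
  set S : Matrix (Fin e) (Fin e) F := Matrix.single l l 1 with hS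
  have hSt : Sᵀ = S := by rw [hS, Matrix.transpose_single]
  have hU : fromBlocks 1 S 0 1 ∈ symplecticGroup (Fin e) F := by
    rw [SymplecticGroup.fromBlocks_mem_iff]
    simp [hSt]
  set u : symplecticGroup (Fin e) F := spHom e F (jordanGL e F) * ⟨_, hU⟩ with hu
  refine ⟨u, ?_⟩
  set A : Matrix (Fin e) (Fin e) F := (jordanGL e F : Matrix (Fin e) (Fin e) F) with hA
  set A' : Matrix (Fin e) (Fin e) F :=
    (((jordanGL e F)⁻¹ : GL (Fin e) F) : Matrix (Fin e) (Fin e) F) with hA'
  set N := shiftMat e F with hN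
  have hAN : A = 1 + N := by rw [hA, hN, ← jordanGL_sub_one]; abel
  have hA'A : A' * A = 1 := (jordanGL e F).inv_mul
  have hNA' : Commute N A' := by
    have h : Commute N A := by rw [hAN]; exact (Commute.one_right _).add_right (Commute.refl _)
    exact h.units_inv_right (u := jordanGL e F)
  have hD : (u : Matrix (Fin e ⊕ Fin e) (Fin e ⊕ Fin e) F) - 1 =
      fromBlocks N (A * S) 0 (-((A' * N)ᵀ)) := by
    have h1 : A' - 1 = -(A' * N) := by
      have : A' * N = 1 - A' := by
        conv_rhs => rw [← hA'A, hAN]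
        rw [mul_add, mul_one, add_sub_cancel_left]
      rw [this]; abel
    change fromBlocks A 0 0 A'ᵀ * fromBlocks 1 S 0 1 - 1 = _
    rw [fromBlocks_multiply, ← fromBlocks_one, sub_eq_add_neg, fromBlocks_neg, fromBlocks_add]
    simp only [mul_one, mul_zero, zero_mul, add_zero, zero_add, neg_zero]
    rw [← transpose_neg, ← h1, transpose_sub, transpose_one, ← sub_eq_add_neg, ← sub_eq_add_neg,
      hAN, add_sub_cancel_left]
  have hNe : N ^ e = 0 := shiftMat_pow_self e F
  have hMpow : ∀ k, (-((A' * N)ᵀ)) ^ k = (-1 : F) ^ k • ((A' ^ k * N ^ k)ᵀ) := by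
    intro k
    rw [← neg_one_smul F ((A' * N)ᵀ), smul_pow, ← transpose_pow, hNA'.symm.mul_pow]
  have hzero : ((u : Matrix (Fin e ⊕ Fin e) (Fin e ⊕ Fin e) F) - 1) ^ (2 * e) = 0 := by
    rw [hD, fromBlocks_upper_pow, hMpow, pow_eq_zero_of_le (by omega) hNe, mul_zero,
      transpose_zero, smul_zero, Finset.sum_eq_zero, fromBlocks_zero]
    intro i hi
    rcases Nat.lt_or_ge i e with hlt | hge
    · rw [hMpow, pow_eq_zero_of_le (show e ≤ 2 * e - 1 - i by omega) hNe, mul_zero,
        transpose_zero, smul_zero, mul_zero]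
    · rw [pow_eq_zero_of_le hge hNe, zero_mul, zero_mul]
  have hne : ((u : Matrix (Fin e ⊕ Fin e) (Fin e ⊕ Fin e) F) - 1) ^ (2 * e - 1) ≠ 0 := by
    rw [hD, fromBlocks_upper_pow]
    intro h
    have h2 : fromBlocks (N ^ (2 * e - 1))
        (∑ i ∈ Finset.range (2 * e - 1), N ^ i * (A * S) * (-((A' * N)ᵀ)) ^ (2 * e - 1 - 1 - i))
        0 ((-((A' * N)ᵀ)) ^ (2 * e - 1)) = fromBlocks 0 0 0 0 := by rw [h, fromBlocks_zero]
    have h3 := (fromBlocks_inj.mp h2).2.1
    rw [Finset.sum_eq_single (e - 1)] at h3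
    · have hAk : ∀ k, A' ^ k * N ^ (e - 1) = N ^ (e - 1) := by
        intro k
        induction k with
        | zero => rw [pow_zero, one_mul]
        | succ k ih =>
          have h4 : A * N ^ (e - 1) = N ^ (e - 1) := by
            rw [hAN, add_mul, one_mul, ← pow_succ', Nat.sub_add_cancel he, hNe, add_zero]
          have h5 : A' * N ^ (e - 1) = N ^ (e - 1) := by
            conv_lhs => rw [← h4, ← mul_assoc, hA'A, one_mul]
          rw [pow_succ, mul_assoc, h5, ih]
      have h6 : N ^ (e - 1) * A = N ^ (e - 1) := by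
        rw [hAN, mul_add, mul_one, ← pow_succ, Nat.sub_add_cancel he, hNe, add_zero]
      rw [show 2 * e - 1 - 1 - (e - 1) = e - 1 by omega, hMpow, hAk, ← mul_assoc, h6, hN,
        shiftMat_pow_pred e he, hS, ← hl, Matrix.single_mul_single_same, Matrix.transpose_single,
        Matrix.mul_smul, Matrix.single_mul_single_same, one_mul, one_mul] at h3
      have := congrFun (congrFun h3 ⟨0, he⟩) ⟨0, he⟩
      simp [Matrix.single_apply] at this
    · intro i hi hie
      rw [Finset.mem_range] at hi
      rcases Nat.lt_or_ge i (e - 1) with hlt | hge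
      · rw [hMpow, pow_eq_zero_of_le (show e ≤ 2 * e - 1 - 1 - i by omega) hNe, mul_zero,
          transpose_zero, smul_zero, mul_zero]
      · rw [pow_eq_zero_of_le (show e ≤ i by omega) hNe, zero_mul, zero_mul]
    · intro h'
      exact absurd (Finset.mem_range.mpr (by omega)) h'
  exact ⟨by simp; ring, by omega, hzero, hne⟩

end Cfsg.Agent.Small.SpRegular
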