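import Cfsg.Agent.Lib.Small.RegularUnipotent

/-!
Matrices `T` with `T ^ n = 0 ≠ T ^ (n - 1)` in dimension `n`: cyclic vector, commutant, conjugacy.
-/

set_option autoImplicit false
set_option linter.unusedSectionVars false

namespace Cfsg.Agent.Small.SpRegular

open Module Matrix

variable {F : Type*} [Field F] {ι : Type} [Fintype ι] [DecidableEq ι] {n : ℕ}

/-- `T` has a single Jordan block for the eigenvalue zero. -/
structure IsCyc (n : ℕ) (T : Matrix ι ι F) : Prop where
  card : Fintype.card ι = n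
  pos : 1 ≤ n
  nil : T ^ n = 0
  top : T ^ (n - 1) ≠ 0

/-- Polynomials of degree less than `n` in `T`. -/
def poly (T : Matrix ι ι F) (c : Fin n → F) : Matrix ι ι F := ∑ i : Fin n, c i • T ^ (i : ℕ)

theorem rank_succ_lt {T : Matrix ι ι F} (hT : T ^ n = 0) {k : ℕ} (hk : T ^ k ≠ 0) :
    (T ^ (k + 1)).rank < (T ^ k).rank := by
  have hle : LinearMap.range (T ^ (k + 1)).mulVecLin ≤ LinearMap.range (T ^ k).mulVecLin := by
    rw [pow_succ, Matrix.mulVecLin_mul]
    exact LinearMap.range_comp_le_range _ _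
  refine lt_of_le_of_ne (Submodule.finrank_mono hle) fun heq => hk ?_
  have h1 : LinearMap.range (T ^ (k + 1)).mulVecLin = LinearMap.range (T ^ k).mulVecLin :=
    Submodule.eq_of_le_of_finrank_eq hle heq
  have h2 : ∀ j, LinearMap.range (T ^ (k + j)).mulVecLin = LinearMap.range (T ^ k).mulVecLin := by
    intro j
    induction j with
    | zero => rfl
    | succ j ih =>
      rw [show k + (j + 1) = 1 + (k + j) by omega, pow_add, Matrix.mulVecLin_mul, LinearMap.range_comp, ih,
        ← LinearMap.range_comp, ← Matrix.mulVecLin_mul, ← pow_add, show 1 + k = k + 1 by omega, h1]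
  have h3 := h2 n
  rw [show T ^ (k + n) = 0 by rw [pow_add, hT, mul_zero], Matrix.mulVecLin_zero, LinearMap.range_zero] at h3
  refine Matrix.toLin'.injective ?_
  rw [Matrix.toLin'_apply', map_zero]
  exact LinearMap.range_eq_bot.1 h3.symm

theorem rank_of_top {T : Matrix ι ι F} (hT : IsCyc n T) : T.rank = n - 1 := by
  obtain ⟨hc, hn, hnil, htop⟩ := hT
  have key : ∀ k, k ≤ n - 1 → (T ^ (n - 1 - k)).rank ≥ k + 1 := by
    intro k
    induction k with
    | zero =>
      intro _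
      by_contra h
      refine htop (Matrix.toLin'.injective ?_)
      rw [Matrix.toLin'_apply', map_zero]
      refine LinearMap.range_eq_bot.1 (Submodule.finrank_eq_zero.1 ?_)
      show (T ^ (n - 1)).rank = 0
      rw [Nat.sub_zero] at h
      omega
    | succ k ih =>
      intro hk
      have h1 := ih (by omega)
      have h2 := rank_succ_lt hnil (k := n - 1 - (k + 1)) fun h0 => htop (by
        rw [show n - 1 = n - 1 - (k + 1) + (k + 1) by omega, pow_add, h0, zero_mul])
      rw [show n - 1 - (k + 1) + 1 = n - 1 - k by omega] at h2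
      omega
  rcases Nat.lt_or_ge 1 n with h | h
  · have h1 := key (n - 2) (by omega)
    rw [show n - 1 - (n - 2) = 1 by omega, pow_one] at h1
    have h3 := rank_succ_lt hnil (k := 0) (by
      rw [pow_zero]; exact fun h0 => htop (by rw [← one_mul (T ^ (n - 1)), h0, zero_mul]))
    rw [pow_one, pow_zero, Matrix.rank_one, hc] at h3
    omega
  · have : n = 1 := by omega
    subst this
    rw [pow_one] at hnil
    rw [hnil, Matrix.rank_zero]

theorem top_of_rank {T : Matrix ι ι F} (hc : Fintype.card ι = n) (hn : 1 ≤ n) (hnil : T ^ n = 0)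
    (hr : T.rank = n - 1) : IsCyc n T := by
  refine ⟨hc, hn, hnil, fun h0 => ?_⟩
  have h1 := RegularUnipotent.finrank_ker_le (F := F) (n := n) T.mulVecLin (by simp [hc]) hr
  have h2 := RegularUnipotent.finrank_ker_pow_le T.mulVecLin h1 (n - 1)
  rw [← RegularUnipotent.mulVecLin_pow, h0, Matrix.mulVecLin_zero, LinearMap.ker_zero, finrank_top,
    Module.finrank_pi, hc] at h2
  omega

theorem exists_basis {T : Matrix ι ι F} (hT : IsCyc n T) :
    ∃ b : Basis (Fin n) F (ι → F), ∀ i : Fin n, b i = (T ^ (i : ℕ)) *ᵥ b ⟨0, hT.pos⟩ := by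
  obtain ⟨hc, hn, hnil, htop⟩ := hT
  obtain ⟨v, hv⟩ : ∃ v, (T ^ (n - 1)) *ᵥ v ≠ 0 := by
    by_contra h
    push Not at h
    exact htop (Matrix.ext_of_mulVec_single fun i => by rw [h, Matrix.zero_mulVec])
  have hli : LinearIndependent F (fun i : Fin n => (T ^ (i : ℕ)) *ᵥ v) := by
    rw [Fintype.linearIndependent_iff]
    intro c hsum
    by_contra hcon
    push Not at hcon
    obtain ⟨i₀, hi₀⟩ := hcon
    classical
    obtain ⟨j, hj, hjmin⟩ := Finset.exists_min_image (Finset.univ.filter fun i => c i ≠ 0) id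
      ⟨i₀, Finset.mem_filter.2 ⟨Finset.mem_univ _, hi₀⟩⟩
    have h1 := congrArg ((T ^ (n - 1 - (j : ℕ))) *ᵥ ·) hsum
    simp only [Matrix.mulVec_zero, Matrix.mulVec_sum, Matrix.mulVec_smul, Matrix.mulVec_mulVec, ← pow_add] at h1
    rw [Finset.sum_eq_single j] at h1
    · rw [show n - 1 - (j : ℕ) + (j : ℕ) = n - 1 by have := j.2; omega] at h1
      exact (Finset.mem_filter.1 hj).2 ((smul_eq_zero.1 h1).resolve_right hv)
    · intro i _ hij
      by_cases hi : c i = 0
      · rw [hi, zero_smul]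
      · have := hjmin i (Finset.mem_filter.2 ⟨Finset.mem_univ _, hi⟩)
        have hlt : (j : ℕ) < i := lt_of_le_of_ne this fun e => hij (Fin.ext e.symm)
        rw [pow_eq_zero_of_le (by omega) hnil, Matrix.zero_mulVec, smul_zero]
    · simp
  have : Nonempty (Fin n) := ⟨⟨0, hn⟩⟩
  refine ⟨basisOfLinearIndependentOfCardEqFinrank hli (by simp [hc]), fun i => ?_⟩
  simp [coe_basisOfLinearIndependentOfCardEqFinrank]

theorem poly_inj {T : Matrix ι ι F} (hT : IsCyc n T) : Function.Injective (poly (n := n) T) := by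
  obtain ⟨b, hb⟩ := exists_basis hT
  intro c d h
  have h1 : ∀ e : Fin n → F, poly T e *ᵥ b ⟨0, hT.pos⟩ = ∑ i, e i • b i := fun e => by
    rw [poly, Matrix.sum_mulVec]
    exact Finset.sum_congr rfl fun i _ => by rw [Matrix.smul_mulVec, ← hb]
  have h2 := congrArg (fun M => b.equivFun (M *ᵥ b ⟨0, hT.pos⟩)) h
  simp only [h1, ← b.equivFun_symm_apply, LinearEquiv.apply_symm_apply] at h2
  exact h2

theorem exists_poly {T : Matrix ι ι F} (hT : IsCyc n T) {M : Matrix ι ι F} (h : Commute M T) :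
    ∃ c : Fin n → F, M = poly T c := by
  obtain ⟨b, hb⟩ := exists_basis hT
  refine ⟨b.equivFun (M *ᵥ b ⟨0, hT.pos⟩), Matrix.toLin'.injective (b.ext fun i => ?_)⟩
  rw [Matrix.toLin'_apply, Matrix.toLin'_apply, hb i, Matrix.mulVec_mulVec, Matrix.mulVec_mulVec,
    (h.pow_right _).eq, ← Matrix.mulVec_mulVec]
  have hcomm : Commute (poly T (b.equivFun (M *ᵥ b ⟨0, hT.pos⟩))) (T ^ (i : ℕ)) :=
    Commute.sum_left _ _ _ fun j _ => (Commute.pow_pow (Commute.refl T) _ _).smul_left _
  rw [hcomm.eq, ← Matrix.mulVec_mulVec]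
  congr 1
  rw [poly, Matrix.sum_mulVec]
  conv_lhs => rw [← b.sum_equivFun (M *ᵥ b ⟨0, hT.pos⟩)]
  exact Finset.sum_congr rfl fun j _ => by rw [Matrix.smul_mulVec, ← hb]

theorem commute_all {T : Matrix ι ι F} (hT : IsCyc n T) {M M' : Matrix ι ι F} (h : Commute M T) (h' : Commute M' T) :
    Commute M M' := by
  obtain ⟨c, rfl⟩ := exists_poly hT h'
  exact Commute.sum_right _ _ _ fun j _ => (h.pow_right _).smul_right _

theorem poly_commute (T : Matrix ι ι F) (c : Fin n → F) : Commute (poly T c) T :=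
  Commute.sum_left _ _ _ fun i _ => (Commute.pow_self T (i : ℕ)).smul_left _

theorem poly_lead {T : Matrix ι ι F} (hT : IsCyc n T) (c : Fin n → F) :
    poly T c * T ^ (n - 1) = c ⟨0, hT.pos⟩ • T ^ (n - 1) := by
  rw [poly, Finset.sum_mul, Finset.sum_eq_single (⟨0, hT.pos⟩ : Fin n)]
  · simp
  · intro i _ hi
    have : (i : ℕ) ≠ 0 := fun e => hi (Fin.ext e)
    rw [smul_mul_assoc, ← pow_add, pow_eq_zero_of_le (by omega) hT.nil, smul_zero]
  · simp

theorem isUnit_poly {T : Matrix ι ι F} (hT : IsCyc n T) (c : Fin n → F) (h : c ⟨0, hT.pos⟩ ≠ 0) :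
    IsUnit (poly T c) := by
  have hsplit : poly T c = algebraMap F _ (c ⟨0, hT.pos⟩) +
      poly T (fun i => if i = ⟨0, hT.pos⟩ then 0 else c i) := by
    rw [poly, poly, Algebra.algebraMap_eq_smul_one, ← Finset.add_sum_erase _ _ (Finset.mem_univ ⟨0, hT.pos⟩),
      ← Finset.add_sum_erase (Finset.univ : Finset (Fin n)) (fun i => (if i = ⟨0, hT.pos⟩ then 0 else c i) • T ^ (i : ℕ))
        (Finset.mem_univ ⟨0, hT.pos⟩)]
    simp only [if_true, zero_smul, zero_add, pow_zero]
    exact congrArg _ (Finset.sum_congr rfl fun i hi => by rw [if_neg (Finset.ne_of_mem_erase hi)])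
  rw [hsplit]
  refine IsNilpotent.isUnit_add_left_of_commute ?_ ((isUnit_iff_ne_zero.2 h).map _) (Algebra.commute_algebraMap_right _ _)
  unfold poly
  refine Commute.isNilpotent_sum (fun i _ => ?_) fun i j _ _ => ?_
  · by_cases hi : i = ⟨0, hT.pos⟩
    · exact ⟨1, by simp [hi]⟩
    · refine ⟨n, ?_⟩
      have : (i : ℕ) ≠ 0 := fun e => hi (Fin.ext e)
      rw [smul_pow, ← pow_mul, pow_eq_zero_of_le (Nat.le_mul_of_pos_left n (by omega)) hT.nil, smul_zero]
  · exact ((Commute.pow_pow (Commute.refl T) _ _).smul_left _).smul_right _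

theorem exists_conj {T T' : Matrix ι ι F} (hT : IsCyc n T) (hT' : IsCyc n T') :
    ∃ x : GL ι F, x.1 * T = T' * x.1 := by
  obtain ⟨b, hb⟩ := exists_basis hT
  obtain ⟨b', hb'⟩ := exists_basis hT'
  let e : (ι → F) ≃ₗ[F] (ι → F) := b.equiv b' (Equiv.refl _)
  obtain ⟨x, hx⟩ : ∃ x : GL ι F, Matrix.toLin' x.1 = e.toLinearMap := by
    have hu : IsUnit (LinearMap.toMatrix' e.toLinearMap) :=
      ((Module.End.isUnit_iff _).2 e.bijective).map LinearMap.toMatrixAlgEquiv'
    exact ⟨hu.unit, by rw [IsUnit.unit_spec, Matrix.toLin'_toMatrix']⟩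
  refine ⟨x, Matrix.toLin'.injective (b.ext fun i => ?_)⟩
  rw [Matrix.toLin'_mul, Matrix.toLin'_mul, LinearMap.comp_apply, LinearMap.comp_apply, hx]
  simp only [LinearEquiv.coe_coe, e, Basis.equiv_apply, Equiv.refl_apply, Matrix.toLin'_apply]
  rw [hb i, hb' i, Matrix.mulVec_mulVec, Matrix.mulVec_mulVec, ← pow_succ', ← pow_succ']
  rcases Nat.lt_or_ge ((i : ℕ) + 1) n with h | h
  · have h1 := hb ⟨(i : ℕ) + 1, h⟩
    have h2 := hb' ⟨(i : ℕ) + 1, h⟩
    simp only at h1 h2
    rw [← h1, ← h2, Basis.equiv_apply, Equiv.refl_apply]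
  · rw [pow_eq_zero_of_le h hT.nil, pow_eq_zero_of_le h hT'.nil, Matrix.zero_mulVec, Matrix.zero_mulVec, map_zero]

end Cfsg.Agent.Small.SpRegular
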